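import Cfsg.Agent.SmallBlock.Inertial
import Cfsg.Agent.InertialQuotient.NilpotentRank
import Cfsg.Agent.RelMcKay.Basic

/-!
# Nilpotent blocks with cyclic defect group and the inertial index

A block with cyclic defect group is nilpotent exactly when it has one irreducible Brauer
character, as soon as that number is known to be the inertial index.
-/

set_option autoImplicit false
set_option linter.style.haveILetI false

namespace CfsgLib.CyclicNilpotent

open Cfsg CfsgLib.BlockPairs CfsgLib.InertialQuotient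

universe u

variable {G : Type u} [Group G] [Finite G] {p : ℕ} [Fact p.Prime] {M : Ideal AlgInt}

theorem stabilizesBlock_iff_forall {K : Subgroup G} {b : Set (IrrCharacter K)} {g : G}
    (hg : g ∈ Subgroup.normalizer (K : Set G))
    (hex : ∀ θ : IrrCharacter K, ∃ θ' : IrrCharacter K,
      Cfsg.IsConjCharOf K g (θ : K → ℂ) (θ' : K → ℂ)) :
    Cfsg.StabilizesBlock K b g ↔ ∀ θ ∈ b, ∀ θ' : IrrCharacter K,
      (∀ h h' : K, (h' : G) = g * h * g⁻¹ → (θ' : K → ℂ) h' = (θ : K → ℂ) h) → θ' ∈ b := by
  constructor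
  · rintro ⟨-, h⟩ θ hθ θ' hc
    obtain ⟨θ'', hm, hc''⟩ := h θ hθ
    have : θ' = θ'' := Subtype.ext (funext fun k' => by
      have hk : g⁻¹ * (k' : G) * g ∈ K := by
        have := (Subgroup.mem_normalizer_iff.1 (inv_mem hg) (k' : G)).1 k'.2
        simpa using this
      rw [hc ⟨_, hk⟩ k' (by group), hc'' ⟨_, hk⟩ k' (by group)])
    exact this ▸ hm
  · intro h
    refine ⟨hg, fun θ hθ => ?_⟩
    obtain ⟨θ', hc⟩ := hex θ
    exact ⟨θ', h θ hθ θ' hc, hc⟩

/-- Nilpotent iff rank one, given that the rank is the inertial index. -/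
theorem isNilpotentBlock_iff_rank_one (hM : Cfsg.IsPModular p M) {B : Set (IrrCharacter G)}
    (hB : Cfsg.IsPBlock M B) {P : Subgroup G} (hPD : Cfsg.IsDefectGroup p M B P)
    (hcyc : IsCyclic P)
    (hrank : P ≠ ⊥ → ∀ b : Set (IrrCharacter (Subgroup.centralizer (P : Set G))),
      Cfsg.IsInducedBlock M (Subgroup.centralizer (P : Set G)) b B → ∀ T : Subgroup G,
      (∀ g : G, g ∈ T ↔ (g ∈ Subgroup.normalizer (P : Set G) ∧ ∀ θ ∈ b,
        ∀ θ' : IrrCharacter (Subgroup.centralizer (P : Set G)),
        (∀ h h' : Subgroup.centralizer (P : Set G), (h' : G) = g * h * g⁻¹ →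
          (θ' : Subgroup.centralizer (P : Set G) → ℂ) h' =
            (θ : Subgroup.centralizer (P : Set G) → ℂ) h) → θ' ∈ b)) →
      Cfsg.blockRank p B = (Subgroup.centralizer (P : Set G)).relIndex T) :
    Cfsg.IsNilpotentBlock p M B ↔ Cfsg.blockRank p B = 1 := by
  haveI := CfsgLib.Blocks.IsPModular.isPrime hM
  haveI := CfsgLib.Blocks.charP_res hM
  haveI := CfsgLib.BlockPairs.isAlgClosed_res hM
  haveI := Fintype.ofFinite G
  have hab := le_centralizer_of_cyclic hcyc
  constructor
  · exact fun hn => blockRank_eq_one hM hB hPD hcyc ((isNilpotentBlock_gblk_iff hB).1 hn)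
  · intro hone
    have hcomm : ∀ x ∈ P, ∀ y ∈ P, x * y = y * x := fun x hx y hy =>
      (Subgroup.mem_centralizer_iff.1 (hab hy) x hx)
    obtain ⟨c, hc⟩ := CfsgLib.AbelianDefect.exists_root_block hM hB hPD hcomm
    obtain ⟨hgb, hmax⟩ := maxPair_of_induced hM hPD hab hc
    refine (isNilpotentBlock_gblk_iff hB).2 (CfsgLib.SmallBlock.nilp_of_stab_le hB hab hmax ?_)
    set T := stab ⊤ P (sblk M (Subgroup.centralizer (P : Set G)) c)
    by_cases hP : P = ⊥
    · intro g _
      refine Subgroup.mem_centralizer_iff.2 fun v hv => ?_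
      rw [SetLike.mem_coe, hP, Subgroup.mem_bot] at hv
      simp [hv]
    refine Subgroup.relIndex_eq_one.1 (((hrank hP c hc T fun g => ?_).symm).trans hone)
    rw [← mem_stab_iff hc.1]
    refine and_congr_right fun hg => stabilizesBlock_iff_forall
      (normalizer_le_normalizer_centralizer P hg) fun θ => ?_
    let K : Subgroup G := Subgroup.centralizer (P : Set G)
    have hn : g ∈ Subgroup.normalizer (K : Set G) := normalizer_le_normalizer_centralizer P hg
    obtain ⟨θ', hθ'⟩ := CfsgLib.RelMcKay.exists_conj hn θ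
    exact ⟨θ', hθ'.2⟩

end CfsgLib.CyclicNilpotent
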